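import Cfsg.Agent.H196.Lsp.StrongA
import Cfsg.Agent.H196.Lsp.PSU
import Cfsg.Agent.S2798
import Cfsg.Agent.MTwelveType.PatQuot
import Cfsg.Agent.Characters.CNBasic
import Cfsg.Agent.H478.KleinEven

/-!
# Groups of fixity two with a Sylow 2-subgroup fixing a point (helper196, LSP-D)
-/

set_option autoImplicit false
set_option linter.unusedSectionVars false

open Cfsg Cfsg.Agent.H355.Lsp MulAction Matrix

namespace Cfsg.Agent.H196.Lsp

theorem cond_of_sl {T : Type*} [Group T] (F : Type) [Field F] [Fintype F] [CharP F 2]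
    (e : T ≃* SpecialLinearGroup (Fin 2) F) : Cond T := by
  right; right
  have hc : Subgroup.center (SpecialLinearGroup (Fin 2) F) = ⊥ := Cfsg.Agent.H478.KleinEven.center_eq_bot
  let e0 : ProjectiveSpecialLinearGroup (Fin 2) F ≃* SpecialLinearGroup (Fin 2) F :=
    (QuotientGroup.quotientMulEquivOfEq hc).trans QuotientGroup.quotientBot
  have hc0 : Subgroup.center (ProjectiveSpecialLinearGroup (Fin 2) F) = ⊥ := by
    rw [eq_bot_iff]
    intro z hz
    rw [Subgroup.mem_center_iff] at hz
    have h1 : e0 z ∈ Subgroup.center (SpecialLinearGroup (Fin 2) F) := by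
      rw [Subgroup.mem_center_iff]
      intro g
      have h2 := congrArg e0 (hz (e0.symm g))
      rwa [map_mul, map_mul, MulEquiv.apply_symm_apply] at h2
    have h3 : e0 z = 1 := Subgroup.mem_bot.1 (hc.le h1)
    rw [Subgroup.mem_bot]
    exact e0.injective (h3.trans (map_one e0).symm)
  have hinj : Function.Injective (MulAut.conj : ProjectiveSpecialLinearGroup (Fin 2) F →* _) := by
    rw [← MonoidHom.ker_eq_bot_iff, eq_bot_iff, ← hc0]
    intro g hg
    rw [MonoidHom.mem_ker] at hg
    rw [Subgroup.mem_center_iff]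
    intro x
    have h1 := DFunLike.congr_fun hg x
    rw [MulAut.conj_apply, MulAut.one_apply] at h1
    rw [mul_inv_eq_iff_eq_mul] at h1
    exact h1.symm
  exact ⟨F, inferInstance, inferInstance, (MulAut.conj : ProjectiveSpecialLinearGroup (Fin 2) F →* _).range, le_rfl,
    ⟨(e.trans e0.symm).trans (MonoidHom.ofInjective hinj)⟩⟩

theorem LL_eq (X : Type*) [Group X] : LL X = pElementClosure 2 (⊤ : Subgroup X) := by
  unfold LL pElementClosure
  congr 1
  ext x
  simp

/-- centralizers of involutions of the quotient by a normal subgroup of odd order -/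
theorem isNilpotent_centralizer_quot {G : Type*} [Group G] [Finite G] (K : Subgroup G) [K.Normal]
    (hK : Odd (Nat.card K)) (hnil : ∀ z : G, orderOf z = 2 → Group.IsNilpotent ↥(Subgroup.centralizer ({z} : Set G)))
    (u : G ⧸ K) (hu : orderOf u = 2) : Group.IsNilpotent ↥(Subgroup.centralizer ({u} : Set (G ⧸ K))) := by
  obtain ⟨v, rfl⟩ := QuotientGroup.mk_surjective u
  have hu2 : (v : G ⧸ K) ^ 2 = 1 := by rw [← hu]; exact pow_orderOf_eq_one _
  have h1 : (((v ^ Nat.card K : G)) : G ⧸ K) = (v : G ⧸ K) := by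
    obtain ⟨m, hm⟩ := hK
    rw [QuotientGroup.mk_pow, hm, pow_succ, pow_mul, hu2, one_pow, one_mul]
  have hz : orderOf (v ^ Nat.card K) = 2 := by
    rw [orderOf_eq_prime_iff]
    constructor
    · have h2 : v ^ 2 ∈ K := by
        rw [← QuotientGroup.eq_one_iff, QuotientGroup.mk_pow, hu2]
      rw [← pow_mul, mul_comm, pow_mul]
      have h3 := pow_card_eq_one' (x := (⟨v ^ 2, h2⟩ : K))
      exact congrArg Subtype.val h3
    · intro h2
      rw [h2, QuotientGroup.mk_one] at h1
      rw [← h1, orderOf_one] at hu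
      omega
  rw [← h1, ← Cfsg.Agent.MTwelveType.PatQuot.map_centralizer_singleton K hK _ hz]
  have := hnil _ hz
  exact Group.nilpotent_of_surjective ((QuotientGroup.mk' K).subgroupMap _) ((QuotientGroup.mk' K).subgroupMap_surjective _)

/-- **LSP-D** -/
theorem strong_case {G : Type*} [Group G] [Finite G] {Ω : Type*} [Finite Ω] [MulAction G Ω] [FaithfulSMul G Ω]
    (h : Fix2 G Ω) (S : Sylow 2 G) {α : Ω} (hS : (S : Subgroup G) ≠ ⊥)
    (hSα : (S : Subgroup G) ≤ MulAction.stabilizer G α) : Cond ↥(LL (G ⧸ Cfsg.oddCore G)) := by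
  have : Fact (Nat.Prime 2) := ⟨Nat.prime_two⟩
  have hLL : LL (G ⧸ Cfsg.oddCore G) = pElementClosure 2 (⊤ : Subgroup (G ⧸ pPrimeCore 2 G)) := LL_eq _
  have hst := strongly h S hS hSα
  rcases Cfsg.Agent.S2798.result (stabilizer G α) hst with h1 | ⟨F, _, _, hc, h4, ⟨e⟩⟩ | ⟨F, _, _, q, hq, h4, hF, ⟨e⟩⟩ | h1
  · exfalso
    obtain ⟨t, ht⟩ := exists_prime_orderOf_dvd_card' 2 hst.1
    exact case_one h S hSα ht (h1 t ht).1
  · exact cond_of_sl F ((MulEquiv.subgroupCongr hLL).trans e)
  · exfalso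
    obtain ⟨u, s, x, hu, hsu, hx, hxu, hxs⟩ := PSU.exists_elts hq h4 hF
    have hKn : (pPrimeCore 2 G).Normal := Cfsg.Agent.Lib.Cores.pPrimeCore_normal 2
    have hK : Odd (Nat.card (pPrimeCore 2 G)) :=
      Nat.coprime_two_right.1 (Cfsg.Agent.Lib.Cores.pPrimeCore_coprime 2)
    let f : PSU 3 F q →* (G ⧸ pPrimeCore 2 G) := (Subgroup.subtype _).comp e.symm.toMonoidHom
    have hf : Function.Injective f := (Subgroup.subtype_injective _).comp e.symm.injective
    have hu2 : orderOf (f u) = 2 := by rw [orderOf_injective f hf, hu]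
    have hnil := isNilpotent_centralizer_quot (pPrimeCore 2 G) hK
      (fun z hz => isNilpotent_centralizer h S hSα hz) (f u) hu2
    have hs1 : f s ∈ Subgroup.centralizer ({f u} : Set (G ⧸ pPrimeCore 2 G)) := by
      rw [Subgroup.mem_centralizer_singleton_iff, ← map_mul, ← map_mul, ← hsu, mul_assoc]
    have hx1 : f x ∈ Subgroup.centralizer ({f u} : Set (G ⧸ pPrimeCore 2 G)) := by
      rw [Subgroup.mem_centralizer_singleton_iff, ← map_mul, ← map_mul, hxu]
    have hso : orderOf s ∣ 2 ^ 2 := by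
      apply orderOf_dvd_of_pow_eq_one
      have h5 : u * u = 1 := by
        have := pow_orderOf_eq_one u
        rwa [hu, pow_two] at this
      calc s ^ 2 ^ 2 = (s * s) * (s * s) := by rw [pow_two 2, pow_mul, pow_two, pow_two]
        _ = 1 := by rw [hsu, h5]
    have hcop : (orderOf x).Coprime (orderOf s) := by
      apply Nat.Coprime.coprime_dvd_right hso
      exact Nat.Coprime.pow_right 2 (Nat.coprime_two_right.2 hx)
    have h6 := Cfsg.Agent.Characters.CNBasic.commute_of_coprime hnil (x := ⟨f x, hx1⟩) (y := ⟨f s, hs1⟩) (by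
      rw [← Subgroup.orderOf_coe, ← Subgroup.orderOf_coe]
      show (orderOf (f x)).Coprime (orderOf (f s))
      rwa [orderOf_injective f hf, orderOf_injective f hf])
    have h7 : f x * f s = f s * f x := congrArg Subtype.val h6
    rw [← map_mul, ← map_mul] at h7
    exact hxs (hf h7)
  · right; left
    obtain ⟨F, hF, hF2, m, hm, hcard, ⟨e⟩⟩ := h1
    exact ⟨F, hF, hF2, m, hm, hcard, ⟨(MulEquiv.subgroupCongr hLL).trans e⟩⟩

end Cfsg.Agent.H196.Lsp
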