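import Cfsg.Agent.H355.LspDefs
import Cfsg.Agent.H355.Fixity
import Cfsg.Agent.H355.TwoPoint
import Cfsg.Agent.Lib.Cores
import Cfsg.Agent.S0042
import Cfsg.Agent.S4283
import Cfsg.Prelude.Def_EvenType

/-!
# Groups of fixity two with a Sylow 2-subgroup fixing a point: facts on the action (helper196)
-/

set_option autoImplicit false
set_option linter.unusedSectionVars false

open Cfsg Cfsg.Agent.H355.Lsp MulAction
open scoped Pointwise

namespace Cfsg.Agent.H196.Lsp

variable {G : Type*} [Group G] [Finite G] {Ω : Type*} [Finite Ω] [MulAction G Ω]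

/-- the degree is odd -/
theorem card_odd [IsPretransitive G Ω] (S : Sylow 2 G) {α : Ω} (hSα : (S : Subgroup G) ≤ stabilizer G α) :
    Odd (Nat.card Ω) := by
  have : Fact (Nat.Prime 2) := ⟨Nat.prime_two⟩
  have h1 := Subgroup.relIndex_mul_index hSα
  have h2 : ¬ 2 ∣ (S : Subgroup G).index := S.not_dvd_index
  have h3 : (stabilizer G α).index = Nat.card Ω := index_stabilizer_of_transitive G α
  rw [← Nat.not_even_iff_odd, even_iff_two_dvd]
  intro h4
  apply h2
  rw [← h1, h3]
  exact h4.mul_left _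

/-- an involution has exactly one fixed point -/
theorem card_fixedBy_invol (hodd : Odd (Nat.card Ω)) (hfix : ∀ g : G, g ≠ 1 → Nat.card (fixedBy Ω g) ≤ 2) {t : G}
    (ht : orderOf t = 2) : Nat.card (fixedBy Ω t) = 1 := by
  have : Fact (Nat.Prime 2) := ⟨Nat.prime_two⟩
  have hp : IsPGroup 2 (Subgroup.zpowers t) := by
    apply IsPGroup.of_card (n := 1)
    rw [Nat.card_zpowers, ht, pow_one]
  have h1 := hp.card_modEq_card_fixedPoints Ω
  have h2 : fixedPoints (Subgroup.zpowers t) Ω = fixedBy Ω t := by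
    ext x
    constructor
    · intro hx
      exact hx ⟨t, Subgroup.mem_zpowers t⟩
    · rintro hx ⟨y, hy⟩
      have h3 : Subgroup.zpowers t ≤ stabilizer G x := Subgroup.zpowers_le.2 hx
      exact h3 hy
  rw [h2] at h1
  have h3 := hfix t (by intro h; rw [h, orderOf_one] at ht; omega)
  unfold Nat.ModEq at h1
  rw [Nat.odd_iff] at hodd
  omega

theorem unique_fix (hodd : Odd (Nat.card Ω)) (hfix : ∀ g : G, g ≠ 1 → Nat.card (fixedBy Ω g) ≤ 2) {t : G}
    (ht : orderOf t = 2) {a b : Ω} (ha : t • a = a) (hb : t • b = b) : a = b := by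
  have h1 := card_fixedBy_invol hodd hfix ht
  rw [Nat.card_coe_set_eq, Set.ncard_eq_one] at h1
  obtain ⟨c, hc⟩ := h1
  have h2 : a ∈ fixedBy Ω t := ha
  have h3 : b ∈ fixedBy Ω t := hb
  rw [hc] at h2 h3
  exact h2.trans h3.symm

theorem exists_fix (hodd : Odd (Nat.card Ω)) (hfix : ∀ g : G, g ≠ 1 → Nat.card (fixedBy Ω g) ≤ 2) {t : G}
    (ht : orderOf t = 2) : ∃ a : Ω, t • a = a := by
  have h1 := card_fixedBy_invol hodd hfix ht
  rw [Nat.card_coe_set_eq, Set.ncard_eq_one] at h1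
  obtain ⟨c, hc⟩ := h1
  have h2 : c ∈ fixedBy Ω t := by rw [hc]; rfl
  exact ⟨c, h2⟩

/-- an element fixing two points has odd order -/
theorem odd_of_fix_two (hodd : Odd (Nat.card Ω)) (hfix : ∀ g : G, g ≠ 1 → Nat.card (fixedBy Ω g) ≤ 2) {g : G}
    {a b : Ω} (ha : g • a = a) (hb : g • b = b) (hab : a ≠ b) : Odd (orderOf g) := by
  rw [← Nat.not_even_iff_odd, even_iff_two_dvd]
  intro h2
  have h3 : orderOf (g ^ (orderOf g / 2)) = 2 := by
    rw [orderOf_pow_of_dvd (Nat.div_pos (Nat.le_of_dvd (orderOf_pos g) h2) two_pos).ne'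
      (Nat.div_dvd_of_dvd h2), Nat.div_div_self h2 (orderOf_pos g).ne']
  have h4 : ∀ x : Ω, g • x = x → (g ^ (orderOf g / 2)) • x = x := fun x hx =>
    Subgroup.pow_mem (stabilizer G x) (show g ∈ stabilizer G x from hx) _
  exact hab (unique_fix hodd hfix h3 (h4 a ha) (h4 b hb))

/-- two points, from an element fixing exactly two points -/
theorem exists_two (h : Fix2 G Ω) : ∃ (g : G) (a b : Ω), g ≠ 1 ∧ a ≠ b ∧ g • a = a ∧ g • b = b := by
  obtain ⟨g, hg1, hg2⟩ := h.ex
  rw [Nat.card_coe_set_eq, Set.ncard_eq_two] at hg2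
  obtain ⟨a, b, hab, hset⟩ := hg2
  have ha : a ∈ fixedBy Ω g := by rw [hset]; simp
  have hb : b ∈ fixedBy Ω g := by rw [hset]; simp
  exact ⟨g, a, b, hg1, hab, ha, hb⟩

/-- the point stabilizer is strongly 2-embedded -/
theorem strongly (h : Fix2 G Ω) (S : Sylow 2 G) {α : Ω} (hS : (S : Subgroup G) ≠ ⊥)
    (hSα : (S : Subgroup G) ≤ stabilizer G α) : IsStronglyPEmbedded 2 (stabilizer G α) := by
  have : Fact (Nat.Prime 2) := ⟨Nat.prime_two⟩
  have := h.tr
  have hodd := card_odd S hSα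
  refine ⟨?_, ?_, S, ?_⟩
  · by_contra h2
    apply hS
    have h3 : Nat.card (S : Subgroup G) = 1 := by
      rw [S.card_eq_multiplicity, Nat.factorization_eq_zero_of_not_dvd h2, pow_zero]
    exact Subgroup.card_eq_one.1 h3
  · obtain ⟨g, a, b, -, hab, -, -⟩ := exists_two h
    intro htop
    have h3 : ∀ x : Ω, x = α := by
      intro x
      obtain ⟨k, hk⟩ := exists_smul_eq G α x
      have hk1 : k ∈ stabilizer G α := by rw [htop]; trivial
      rw [← hk]
      exact hk1
    exact hab ((h3 a).trans (h3 b).symm)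
  · refine iSup_le ?_
    rintro ⟨Q, hQS, hQ⟩ n hn
    unfold PRankLE at hQ
    push Not at hQ
    obtain ⟨A, -, hA2, hA3⟩ := hQ
    have hA4 : A ≠ ⊥ := by
      rintro rfl
      rw [Subgroup.card_bot] at hA3
      simp at hA3
    obtain ⟨a, haA, ha1⟩ : ∃ a : Q, a ∈ A ∧ a ≠ 1 := by
      obtain ⟨a, ha⟩ := A.ne_bot_iff_exists_ne_one.1 hA4
      exact ⟨(a : Q), a.2, fun h => ha (Subtype.ext h)⟩
    have ha2 : orderOf (a : G) = 2 := by
      rw [orderOf_eq_prime_iff]
      refine ⟨?_, fun h => ha1 (Subtype.ext h)⟩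
      have := hA2 a haA
      exact congrArg Subtype.val this
    have hna : n * (a : G) * n⁻¹ ∈ Q := (Subgroup.mem_normalizer_iff.1 hn _).1 a.2
    have hna2 : orderOf (n * (a : G) * n⁻¹) = 2 := by
      rw [← ha2]
      exact (MulAut.conj n).orderOf_eq (a : G)
    have e1 : (a : G) • α = α := hSα (hQS a.2)
    have e2 : (n * (a : G) * n⁻¹) • α = α := hSα (hQS hna)
    have e3 : (n * (a : G) * n⁻¹) • (n • α) = n • α := by
      rw [mul_smul, inv_smul_smul, mul_smul, e1]
    exact unique_fix hodd h.fix hna2 e3 e2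

/-- the first case of Bender's theorem does not occur -/
theorem case_one (h : Fix2 G Ω) (S : Sylow 2 G) {α : Ω} 
    (hSα : (S : Subgroup G) ≤ stabilizer G α) {t : G} (ht : orderOf t = 2)
    (htop : pPrimeCore 2 G ⊔ Subgroup.centralizer ({t} : Set G) = ⊤) : False := by
  have := h.tr
  have hodd := card_odd S hSα
  obtain ⟨g, a, b, hg1, hab, ha, hb⟩ := exists_two h
  have hgo := odd_of_fix_two hodd h.fix ha hb hab
  have hN : (pPrimeCore 2 G).Normal := Cfsg.Agent.Lib.Cores.pPrimeCore_normal 2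
  obtain ⟨ω, hω⟩ := exists_fix hodd h.fix ht
  have hNt : ∀ x : Ω, ∃ n ∈ pPrimeCore 2 G, n • ω = x := by
    intro x
    obtain ⟨k, hk⟩ := exists_smul_eq G ω x
    have hk1 : k ∈ pPrimeCore 2 G ⊔ Subgroup.centralizer ({t} : Set G) := by rw [htop]; trivial
    obtain ⟨n, hn, c, hc, rfl⟩ := Subgroup.mem_sup_of_normal_left.1 hk1
    refine ⟨n, hn, ?_⟩
    have hc1 : c * t = t * c := Subgroup.mem_centralizer_singleton_iff.1 hc
    have hc2 : t • (c • ω) = c • ω := by
      rw [← mul_smul, ← hc1, mul_smul, hω]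
    have hc3 : c • ω = ω := unique_fix hodd h.fix ht hc2 hω
    rw [← hk, mul_smul, hc3]
  set G0 : Subgroup G := pPrimeCore 2 G ⊔ Subgroup.zpowers g with hG0
  have hcard : Odd (Nat.card G0) := by
    have h1 := Cfsg.Agent.Lib.Cores.card_sup_dvd (pPrimeCore 2 G) (Subgroup.zpowers g) hN
    have h2 : Odd (Nat.card (pPrimeCore 2 G)) :=
      Nat.coprime_two_right.1 (Cfsg.Agent.Lib.Cores.pPrimeCore_coprime 2)
    have h3 : Odd (Nat.card (Subgroup.zpowers g)) := by rwa [Nat.card_zpowers]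
    exact Odd.of_dvd_nat (h2.mul h3) h1
  have htr0 : IsPretransitive G0 Ω := by
    refine ⟨fun x y => ?_⟩
    obtain ⟨n, hn, hnx⟩ := hNt x
    obtain ⟨m, hm, hmy⟩ := hNt y
    have hmem : m * n⁻¹ ∈ G0 := (le_sup_left : pPrimeCore 2 G ≤ G0) (mul_mem hm (inv_mem hn))
    refine ⟨⟨m * n⁻¹, hmem⟩, ?_⟩
    show (m * n⁻¹) • x = y
    rw [← hnx, mul_smul, inv_smul_smul, hmy]
  have h2 : 2 ∣ Nat.card G0 := by
    apply Cfsg.Agent.H355.two_dvd_card_of_fixity_two (Ω := Ω) htr0
    · rintro ⟨x, hx⟩ hx1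
      exact h.fix x (fun h => hx1 (Subtype.ext h))
    · refine ⟨⟨g, (le_sup_right : Subgroup.zpowers g ≤ G0) (Subgroup.mem_zpowers g)⟩, fun h => hg1 (congrArg Subtype.val h), ?_⟩
      refine le_antisymm (h.fix g hg1) ?_
      show 2 ≤ Nat.card (fixedBy Ω g)
      rw [Nat.card_coe_set_eq, ← Set.ncard_pair hab]
      apply Set.ncard_le_ncard _ (Set.toFinite _)
      rintro z (rfl | rfl)
      · exact ha
      · exact hb
  rw [← Nat.not_even_iff_odd, even_iff_two_dvd] at hcard
  exact hcard h2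

theorem isNilpotent_of_le {X : Type*} [Group X] {A B : Subgroup X} (hAB : A ≤ B) (hB : Group.IsNilpotent ↥B) :
    Group.IsNilpotent ↥A :=
  Group.nilpotent_of_mulEquiv (Subgroup.subgroupOfEquivOfLe hAB)

/-- centralizers of involutions are nilpotent -/
theorem isNilpotent_centralizer (h : Fix2 G Ω) (S : Sylow 2 G) {α : Ω} 
    (hSα : (S : Subgroup G) ≤ stabilizer G α) {z : G} (hz : orderOf z = 2) :
    Group.IsNilpotent ↥(Subgroup.centralizer ({z} : Set G)) := by
  have := h.tr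
  have hodd := card_odd S hSα
  obtain ⟨γ, hγ⟩ := exists_fix hodd h.fix hz
  obtain ⟨g, a, b, hg1, hab, ha, hb⟩ := exists_two h
  obtain ⟨k, hk⟩ := exists_smul_eq G a γ
  set δ : Ω := k • b with hδ
  have hγδ : γ ≠ δ := by
    rw [← hk, hδ]
    exact fun h => hab (smul_left_cancel k h)
  set g' : G := k * g * k⁻¹ with hg'
  have hg'1 : g' ≠ 1 := by
    intro h1
    apply hg1
    have : g = k⁻¹ * g' * k := by rw [hg']; group
    rw [this, h1]; group
  have hg'γ : g' • γ = γ := by
    rw [← hk, hg', mul_smul, inv_smul_smul, mul_smul, ha]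
  have hg'δ : g' • δ = δ := by
    rw [hδ, hg', mul_smul, inv_smul_smul, mul_smul, hb]
  set D : Subgroup ↥(stabilizer G γ) := (stabilizer G δ).subgroupOf (stabilizer G γ) with hD
  have hmemD : ∀ x : ↥(stabilizer G γ), x ∈ D ↔ (x : G) • δ = δ := fun x => Iff.rfl
  have hfrob : IsFrobeniusComplement D := by
    refine ⟨?_, ?_, ?_⟩
    · intro hbot
      have h1 : (⟨g', hg'γ⟩ : ↥(stabilizer G γ)) ∈ D := (hmemD _).2 hg'δ
      rw [hbot, Subgroup.mem_bot] at h1
      exact hg'1 (congrArg Subtype.val h1)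
    · intro htop
      have h1 : (⟨z, hγ⟩ : ↥(stabilizer G γ)) ∈ D := by rw [htop]; trivial
      exact hγδ (unique_fix hodd h.fix hz hγ ((hmemD _).1 h1))
    · intro y hy
      rw [eq_bot_iff]
      intro x hxx
      obtain ⟨hx1, hx2⟩ := Subgroup.mem_inf.1 hxx
      rw [Subgroup.mem_bot]
      by_contra hx
      have hx3 : (x : G) • ((y : G) • δ) = (y : G) • δ := by
        rw [Subgroup.mem_pointwise_smul_iff_inv_smul_mem, ← map_inv, MulAut.smul_def,
          MulAut.conj_apply, hmemD] at hx2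
        have h5 : ((y : G)⁻¹ * x * y) • δ = δ := by
          have h6 := hx2
          rw [inv_inv] at h6
          exact h6
        calc (x : G) • ((y : G) • δ) = (y : G) • (((y : G)⁻¹ * x * y) • δ) := by
              simp only [mul_smul, smul_inv_smul]
          _ = (y : G) • δ := by rw [h5]
      have hx4 : (x : G) ≠ 1 := fun h => hx (Subtype.ext h)
      rcases Cfsg.Agent.H355.SylowTwo.fixed_eq h.fix hγδ hx4 x.2 ((hmemD x).1 hx1) hx3 with h5 | h5
      · have h6 : (y : G) • γ = γ := y.2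
        exact hγδ (smul_left_cancel (y : G) (h6.trans h5.symm))
      · exact hy ((hmemD y).2 h5)
  obtain ⟨N, hN1, -, hN3⟩ := Cfsg.Agent.S0042.result D hfrob
  have hzker : (⟨z, hγ⟩ : ↥(stabilizer G γ)) ∈ frobeniusKernel D := by
    right
    intro y hy
    rw [Subgroup.mem_pointwise_smul_iff_inv_smul_mem, ← map_inv, MulAut.smul_def,
          MulAut.conj_apply, hmemD] at hy
    have h5 : ((y : G)⁻¹ * z * y) • δ = δ := by
      have h6 := hy
      rw [inv_inv] at h6
      exact h6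
    have h6 : z • ((y : G) • δ) = (y : G) • δ := by
      calc z • ((y : G) • δ) = (y : G) • (((y : G)⁻¹ * z * y) • δ) := by
              simp only [mul_smul, smul_inv_smul]
          _ = (y : G) • δ := by rw [h5]
    have h7 := unique_fix hodd h.fix hz hγ h6
    have h8 : (y : G) • γ = γ := y.2
    exact hγδ (smul_left_cancel (y : G) (h8.trans h7))
  have hz1 : (⟨z, hγ⟩ : ↥(stabilizer G γ)) ≠ 1 := by
    intro h1
    have h2 : z = 1 := congrArg Subtype.val h1
    rw [h2, orderOf_one] at hz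
    omega
  have hle : Subgroup.centralizer ({z} : Set G) ≤ N.map (stabilizer G γ).subtype := by
    intro c hc
    have hc1 : c * z = z * c := Subgroup.mem_centralizer_singleton_iff.1 hc
    have hc2 : z • (c • γ) = c • γ := by
      rw [← mul_smul, ← hc1, mul_smul, hγ]
    have hc3 : c • γ = γ := unique_fix hodd h.fix hz hc2 hγ
    have h9 := Cfsg.Agent.S4283.mem_kernel_of_commute hfrob (g := (⟨c, hc3⟩ : ↥(stabilizer G γ))) hzker hz1
      (Subtype.ext hc1)
    rw [← hN1] at h9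
    exact ⟨_, h9, rfl⟩
  refine isNilpotent_of_le hle ?_
  exact Group.nilpotent_of_mulEquiv (N.equivMapOfInjective _ (stabilizer G γ).subtype_injective)

end Cfsg.Agent.H196.Lsp
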